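import Cfsg.Agent.CoprimeAction.Invariant
import Cfsg.Agent.CoprimeAction.Abelian
import Mathlib.GroupTheory.SemidirectProduct

/-!
Coprime action given by a homomorphism `φ : A →* MulAut G`: versions of the subgroup statements,
obtained inside the semidirect product.
-/

namespace CfsgLib.CoprimeAction

open scoped Pointwise commutatorElement

section Chain

variable {G : Type*} [Group G] [Finite G]

/-- An automorphism of coprime order fixing `N` pointwise and every coset of `N` is trivial. -/
theorem mulAut_eq_one_of_chain (a : MulAut G) (N : Subgroup G)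
    (hcop : (orderOf a).Coprime (Nat.card N)) (hN : ∀ n ∈ N, a n = n)
    (hq : ∀ x : G, x⁻¹ * a x ∈ N) : a = 1 := by
  ext x
  show a x = x
  set n := x⁻¹ * a x with hn
  have hx : a x = x * n := by rw [hn]; group
  have hk : ∀ k : ℕ, (a ^ k) x = x * n ^ k := by
    intro k
    induction k with
    | zero => simp
    | succ k ih =>
      rw [pow_succ', MulAut.mul_apply, ih, map_mul, map_pow, hN n (hq x), hx, pow_succ', mul_assoc]
  have h5 := hk (orderOf a)
  rw [pow_orderOf_eq_one, MulAut.one_apply, left_eq_mul] at h5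
  have h6 : orderOf n = 1 := Nat.eq_one_of_dvd_coprimes hcop (orderOf_dvd_of_pow_eq_one h5)
    (Subgroup.orderOf_dvd_natCard N (hq x))
  rw [hx, orderOf_eq_one_iff.1 h6, mul_one]

end Chain

section Hom

variable {A G : Type*} [Group A] [Group G] (φ : A →* MulAut G)

/-- The acting group inside the semidirect product. -/
abbrev actA : Subgroup (G ⋊[φ] A) := (SemidirectProduct.inr : A →* G ⋊[φ] A).range

/-- A subgroup of the group acted on, inside the semidirect product. -/
abbrev actK (N : Subgroup G) : Subgroup (G ⋊[φ] A) := N.map SemidirectProduct.inl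

theorem inr_mul_inl (a : A) (x : G) :
    (SemidirectProduct.inr a * SemidirectProduct.inl x * (SemidirectProduct.inr a)⁻¹ :
      G ⋊[φ] A) = SemidirectProduct.inl (φ a x) := by
  rw [SemidirectProduct.inl_aut, map_inv]

theorem actA_le_normalizer {N : Subgroup G} (hN : ∀ a : A, ∀ n ∈ N, φ a n ∈ N) :
    actA φ ≤ Subgroup.normalizer (actK φ N : Set (G ⋊[φ] A)) := by
  rw [Subgroup.le_normalizer_iff]
  rintro _ ⟨a, rfl⟩ _ ⟨n, hn, rfl⟩
  exact ⟨φ a n, hN a n hn, (inr_mul_inl φ a n).symm⟩

theorem card_actA : Nat.card (actA φ) = Nat.card A :=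
  (Nat.card_congr (MonoidHom.ofInjective SemidirectProduct.inr_injective).toEquiv).symm

theorem card_actK (N : Subgroup G) : Nat.card (actK φ N) = Nat.card N :=
  Subgroup.card_map_of_injective SemidirectProduct.inl_injective

theorem solvable_or {N : Subgroup G} (h : Group.IsSolvable A ∨ Group.IsSolvable N) :
    Group.IsSolvable (actA φ) ∨ Group.IsSolvable (actK φ N) := by
  rcases h with h | h
  · exact Or.inl (Group.isSolvable_of_surjective (MonoidHom.rangeRestrict_surjective _))
  · exact Or.inr (Group.isSolvable_of_surjective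
      (MonoidHom.subgroupMap_surjective (SemidirectProduct.inl : G →* G ⋊[φ] A) N))

theorem mem_centralizer_actA_iff (x : G) :
    (SemidirectProduct.inl x : G ⋊[φ] A) ∈
      Subgroup.centralizer (actA φ : Set (G ⋊[φ] A)) ↔ ∀ a : A, φ a x = x := by
  rw [Subgroup.mem_centralizer_iff]
  constructor
  · intro h a
    apply SemidirectProduct.inl_injective (φ := φ)
    rw [← inr_mul_inl, h _ ⟨a, rfl⟩, mul_inv_cancel_right]
  · rintro h _ ⟨a, rfl⟩
    have := inr_mul_inl φ a x
    rw [h a, mul_inv_eq_iff_eq_mul] at this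
    exact this

theorem solvable_top (h : Group.IsSolvable G) : Group.IsSolvable (⊤ : Subgroup G) :=
  Group.isSolvable_of_surjective (f := (Subgroup.topEquiv (G := G)).symm.toMonoidHom)
    (MulEquiv.surjective _)

instance finite_act [Finite A] [Finite G] : Finite (G ⋊[φ] A) :=
  Finite.of_equiv _ SemidirectProduct.equivProd.symm

/-- A coset `N k` fixed by the action contains a fixed point. -/
theorem exists_fixed_of_coset [Finite A] [Finite G] {N : Subgroup G}
    (hN : ∀ a : A, ∀ n ∈ N, φ a n ∈ N) (hcop : (Nat.card A).Coprime (Nat.card N))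
    (hsolv : Group.IsSolvable A ∨ Group.IsSolvable N) {k : G} (hk : ∀ a : A, φ a k * k⁻¹ ∈ N) :
    ∃ n ∈ N, ∀ a : A, φ a (n * k) = n * k := by
  obtain ⟨_, ⟨n, hn, rfl⟩, hc⟩ := exists_mem_centralizer (actA_le_normalizer φ hN)
    (by rw [card_actA, card_actK]; exact hcop) (solvable_or φ hsolv)
    (k := SemidirectProduct.inl k) (by
      rintro _ ⟨a, rfl⟩
      rw [inr_mul_inl, ← map_inv, ← map_mul]
      exact ⟨_, hk a, rfl⟩)
  refine ⟨n, hn, (mem_centralizer_actA_iff φ _).1 ?_⟩
  rwa [map_mul]

theorem map_inl_map_eq (a : A) (H : Subgroup G) :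
    MulAut.conj (SemidirectProduct.inr a : G ⋊[φ] A) • actK φ H =
      actK φ (H.map (φ a).toMonoidHom) := by
  ext z
  rw [mem_conj_smul]
  constructor
  · rintro ⟨h, hh, he⟩
    refine ⟨φ a h, ⟨h, hh, rfl⟩, ?_⟩
    rw [← inr_mul_inl, he]; group
  · rintro ⟨_, ⟨h, hh, rfl⟩, rfl⟩
    refine ⟨h, hh, ?_⟩
    rw [show ((φ a).toMonoidHom h) = φ a h from rfl, ← inr_mul_inl]; group

/-- An invariant Sylow subgroup containing a given invariant `p`-subgroup. -/
theorem exists_fixed_sylow_ge [Finite A] [Finite G] (hcop : (Nat.card A).Coprime (Nat.card G))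
    (hsolv : Group.IsSolvable A ∨ Group.IsSolvable G) {p : ℕ} [Fact p.Prime] {U : Subgroup G}
    (hU : IsPGroup p U) (hUA : ∀ a : A, ∀ u ∈ U, φ a u ∈ U) :
    ∃ P : Sylow p G, U ≤ P ∧ ∀ a : A, (P : Subgroup G).map (φ a).toMonoidHom = P := by
  have hAK := actA_le_normalizer φ (N := ⊤) (fun _ _ _ => trivial)
  obtain ⟨P, hUP, hP⟩ := exists_invariant_sylow_ge (p := p) (K := actK φ ⊤) hAK
    (by rw [card_actA, card_actK, Subgroup.card_top]; exact hcop)
    (solvable_or φ (hsolv.imp id fun h => solvable_top h))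
    (U := actK φ U) (Subgroup.map_mono le_top) (hU.map _) (actA_le_normalizer φ hUA)
  obtain ⟨H, hH⟩ : ∃ H : Subgroup G, actK φ H = (P : Subgroup (actK φ ⊤)).map (actK φ ⊤).subtype :=
    ⟨_, Subgroup.map_comap_eq_self (by
      exact (Subgroup.map_subtype_le _).trans (Subgroup.map_le_range _ _))⟩
  have hc : Nat.card H = p ^ (Nat.card G).factorization p := by
    rw [← card_actK φ H, hH, card_sylow_map, card_actK, Subgroup.card_top]
  refine ⟨Sylow.ofCard H hc, ?_, fun a => ?_⟩
  · rw [Sylow.coe_ofCard]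
    exact (Subgroup.map_le_map_iff_of_injective SemidirectProduct.inl_injective).1 (hH ▸ hUP)
  · rw [Sylow.coe_ofCard]
    apply Subgroup.map_injective (SemidirectProduct.inl_injective (φ := φ))
    have := map_conj_eq (K := actK φ H) (a := SemidirectProduct.inr a)
      (hH ▸ hP (show SemidirectProduct.inr a ∈ actA φ from ⟨a, rfl⟩))
    rw [map_inl_map_eq] at this
    exact this

/-- Two invariant Sylow subgroups are conjugate by a fixed element. -/
theorem fixed_sylow_conj [Finite A] [Finite G] (hcop : (Nat.card A).Coprime (Nat.card G))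
    (hsolv : Group.IsSolvable A ∨ Group.IsSolvable G) {p : ℕ} [Fact p.Prime] (P Q : Sylow p G)
    (hP : ∀ a : A, (P : Subgroup G).map (φ a).toMonoidHom = P)
    (hQ : ∀ a : A, (Q : Subgroup G).map (φ a).toMonoidHom = Q) :
    ∃ c : G, (∀ a : A, φ a c = c) ∧ c • P = Q := by
  have hAK := actA_le_normalizer φ (N := ⊤) (fun _ _ _ => trivial)
  have hS : ∀ R : Sylow p G, (∀ a : A, (R : Subgroup G).map (φ a).toMonoidHom = R) →
      ∃ R' : Sylow p (actK φ ⊤), (R' : Subgroup (actK φ ⊤)).map (actK φ ⊤).subtype = actK φ R ∧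
        actA φ ≤ Subgroup.normalizer (actK φ R : Set (G ⋊[φ] A)) := by
    intro R hR
    obtain ⟨R', hR'⟩ := exists_sylow_map (p := p) (K := actK φ ⊤) (H := actK φ R)
      (Subgroup.map_mono le_top) (by rw [card_actK, card_actK, Subgroup.card_top]; exact R.card_eq_multiplicity)
    exact ⟨R', hR', actA_le_normalizer φ fun a n hn => by
      have : φ a n ∈ (R : Subgroup G).map (φ a).toMonoidHom := ⟨n, hn, rfl⟩
      rwa [hR a] at this⟩
  obtain ⟨P', hP', hPA⟩ := hS P hP
  obtain ⟨Q', hQ', hQA⟩ := hS Q hQ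
  obtain ⟨c', hc, hcPQ⟩ := invariant_sylow_conj hAK
    (by rw [card_actA, card_actK, Subgroup.card_top]; exact hcop)
    (solvable_or φ (hsolv.imp id fun h => solvable_top h))
    P' Q' (hP'.symm ▸ hPA) (hQ'.symm ▸ hQA)
  obtain ⟨c, -, hcv⟩ := c'.2
  rw [← hcv] at hc
  refine ⟨c, (mem_centralizer_actA_iff φ c).1 hc, Sylow.ext ?_⟩
  apply Subgroup.map_injective (SemidirectProduct.inl_injective (φ := φ))
  rw [Sylow.coe_subgroup_smul]
  show (MulAut.conj c • (P : Subgroup G)).map SemidirectProduct.inl = _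
  rw [map_conj_smul]
  have h := congrArg (fun R : Sylow p (actK φ ⊤) => (R : Subgroup (actK φ ⊤)).map (actK φ ⊤).subtype) hcPQ
  simp only [sylow_map_conj] at h
  rw [hP', hQ', ← hcv] at h
  exact h

/-- Generation by fixed points of a noncyclic commutative acting group. -/
theorem mem_closure_fixed [Finite A] [Finite G] [IsMulCommutative A] (hA : ¬ IsCyclic A)
    (hcop : (Nat.card A).Coprime (Nat.card G)) (x : G) :
    x ∈ Subgroup.closure {y : G | ∃ a : A, a ≠ 1 ∧ φ a y = y} := by
  have hAK := actA_le_normalizer φ (N := ⊤) (fun _ _ _ => trivial)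
  have : IsMulCommutative (actA φ) := ⟨⟨by
    rintro ⟨_, a, rfl⟩ ⟨_, b, rfl⟩
    exact Subtype.ext (by
      show SemidirectProduct.inr a * SemidirectProduct.inr b = _
      rw [← map_mul, show a * b = b * a from Std.Commutative.comm a b, map_mul]; rfl)⟩⟩
  set W := Subgroup.closure {y : G | ∃ a : A, a ≠ 1 ∧ φ a y = y} with hW
  have hle : actK φ ⊤ ≤ actK φ W := le_of_centralizers_le (A := actA φ)
    (fun h => hA (isCyclic_of_surjective (MonoidHom.ofInjective
      (SemidirectProduct.inr_injective (φ := φ))).symm (MulEquiv.surjective _)))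
    hAK (by rw [card_actA, card_actK, Subgroup.card_top]; exact hcop) (by
      rintro _ ⟨a, rfl⟩ ha1 z hz
      obtain ⟨⟨y, -, rfl⟩, hy⟩ := Subgroup.mem_inf.1 hz
      refine ⟨y, Subgroup.subset_closure ⟨a, fun h => ha1 (by rw [h, map_one]), ?_⟩, rfl⟩
      rw [Subgroup.mem_centralizer_singleton_iff] at hy
      apply SemidirectProduct.inl_injective (φ := φ)
      rw [← inr_mul_inl, ← hy, mul_inv_cancel_right])
  obtain ⟨y, hy, hyx⟩ := hle ⟨x, trivial, rfl⟩
  rwa [← SemidirectProduct.inl_injective hyx]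

end Hom

end CfsgLib.CoprimeAction
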